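import Mathlib.GroupTheory.Index
import Mathlib.Algebra.Group.Subgroup.Finite
import Mathlib.GroupTheory.QuotientGroup.Basic
import Mathlib.Tactic.Ring

/-!
# Index quotients of endomorphisms of abelian groups

For an endomorphism `f` of an abelian group the quotient `(A : f A) / #ker f` is multiplicative
in `f` and in short exact sequences.
-/

set_option autoImplicit false

namespace Groth.Agent.Etbc.H226.IndexQuot

variable {A B C : Type*} [AddCommGroup A] [AddCommGroup B] [AddCommGroup C]

/-- cardinality of the preimage of a subgroup -/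
theorem card_comap (g : A →+ B) (K : AddSubgroup B) :
    Nat.card (K.comap g) = Nat.card g.ker * Nat.card ↥(g.range ⊓ K) := by
  have h1 := AddSubgroup.card_mul_index (g.ker.addSubgroupOf (K.comap g))
  have h2 : Nat.card (g.ker.addSubgroupOf (K.comap g)) = Nat.card g.ker :=
    Nat.card_congr (AddSubgroup.addSubgroupOfEquivOfLe
      (fun x hx => by
        rw [AddSubgroup.mem_comap, (AddMonoidHom.mem_ker).1 hx]; exact K.zero_mem)).toEquiv
  have h3 : (g.ker.addSubgroupOf (K.comap g)).index = Nat.card ↥(g.range ⊓ K) := by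
    have : g.ker.addSubgroupOf (K.comap g) = (g.comp (K.comap g).subtype).ker := by
      ext x; rfl
    rw [this, AddSubgroup.index_ker]
    congr 2
    ext y
    constructor
    · rintro ⟨x, rfl⟩
      exact ⟨⟨x, rfl⟩, x.2⟩
    · rintro ⟨⟨x, rfl⟩, hx⟩
      exact ⟨⟨x, hx⟩, rfl⟩
  rw [← h1, h2, h3]

theorem card_eq_inf_mul_relIndex (H K : AddSubgroup A) :
    Nat.card K = Nat.card ↥(H ⊓ K) * H.relIndex K := by
  rw [← AddSubgroup.inf_relIndex_right]
  have h := AddSubgroup.card_mul_index ((H ⊓ K).addSubgroupOf K)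
  rw [← h]
  congr 1
  exact Nat.card_congr (AddSubgroup.addSubgroupOfEquivOfLe inf_le_right).toEquiv

theorem index_eq_relIndex_mul (H K : AddSubgroup A) :
    H.index = H.relIndex K * (H ⊔ K).index := by
  rw [← AddSubgroup.relIndex_sup_right, sup_comm K, AddSubgroup.relIndex_mul_index le_sup_left]

/-- multiplicativity of the index quotient under composition -/
theorem comp_card (f g : A →+ A) :
    (f.comp g).range.index * (Nat.card f.ker * Nat.card g.ker) =
      f.range.index * g.range.index * Nat.card (f.comp g).ker := by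
  have e1 : (f.comp g).range = g.range.map f := AddMonoidHom.range_comp _ _
  have h1 : (f.comp g).range.index = (g.range ⊔ f.ker).index * f.range.index := by
    rw [e1, AddSubgroup.index_map]
  have h3 : Nat.card (f.comp g).ker = Nat.card g.ker * Nat.card ↥(g.range ⊓ f.ker) := by
    rw [← card_comap]
    rfl
  rw [h1, index_eq_relIndex_mul g.range f.ker, h3, card_eq_inf_mul_relIndex g.range f.ker]
  ring

/-- `(A : n A)` -/
noncomputable def idx (n : ℕ) (A : Type*) [AddCommGroup A] : ℕ := (nsmulAddMonoidHom (α := A) n).range.index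

/-- `#A[n]` -/
noncomputable def tor (n : ℕ) (A : Type*) [AddCommGroup A] : ℕ := Nat.card (nsmulAddMonoidHom (α := A) n).ker

/-- multiplicativity of the index quotient in short exact sequences -/
theorem ses_card (i : A →+ B) (hi : Function.Injective i) (p : B →+ C) (hp : Function.Surjective p)
    (he : i.range = p.ker) (a : A →+ A) (b : B →+ B) (c : C →+ C)
    (hab : ∀ x, b (i x) = i (a x)) (hbc : ∀ x, p (b x) = c (p x)) :
    b.range.index * (Nat.card a.ker * Nat.card c.ker) =
      a.range.index * c.range.index * Nat.card b.ker := by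
  have hker : p.ker.map b ≤ p.ker := by
    rintro _ ⟨x, hx, rfl⟩
    change p (b x) = 0
    rw [hbc, (AddMonoidHom.mem_ker).1 hx, map_zero]
  -- index of `c`
  have h1 : c.range.index = (b.range ⊔ p.ker).index := by
    have : b.range ⊔ p.ker = c.range.comap p := by
      have e : b.range.map p = c.range := by
        ext y
        constructor
        · rintro ⟨_, ⟨x, rfl⟩, rfl⟩
          exact ⟨p x, (hbc x).symm⟩
        · rintro ⟨y, rfl⟩
          obtain ⟨x, rfl⟩ := hp y
          exact ⟨b x, ⟨x, rfl⟩, hbc x⟩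
      rw [← e, AddSubgroup.comap_map_eq]
    rw [this, AddSubgroup.index_comap_of_surjective _ hp]
  -- index of `a`, inside `p.ker`
  have h2 : a.range.index = ((p.ker).map b).relIndex p.ker := by
    have e1 : (a.range.map i) = p.ker.map b := by
      rw [← he]
      ext y
      constructor
      · rintro ⟨_, ⟨x, rfl⟩, rfl⟩
        exact ⟨i x, ⟨x, rfl⟩, hab x⟩
      · rintro ⟨_, ⟨x, rfl⟩, rfl⟩
        exact ⟨a x, ⟨x, rfl⟩, (hab x).symm⟩
    rw [← e1, ← he]
    have h := AddSubgroup.relIndex_map_map_of_injective a.range (⊤ : AddSubgroup A) hi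
    rw [AddSubgroup.relIndex_top_right] at h
    rw [← h]
    rw [← AddMonoidHom.range_eq_map]
  have h3 : Nat.card a.ker = Nat.card ↥(b.ker ⊓ p.ker) := by
    refine Nat.card_congr (Equiv.ofBijective (fun x => ⟨i x.1, ?_, ?_⟩) ⟨?_, ?_⟩)
    · change b (i x.1) = 0
      rw [hab, (AddMonoidHom.mem_ker).1 x.2, map_zero]
    · rw [← he]; exact ⟨x.1, rfl⟩
    · intro x y hxy
      exact Subtype.ext (hi (congrArg Subtype.val hxy))
    · rintro ⟨y, hy1, hy2⟩
      rw [← he] at hy2
      obtain ⟨x, rfl⟩ := hy2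
      refine ⟨⟨x, ?_⟩, rfl⟩
      apply hi
      rw [← hab, map_zero]
      exact hy1
  -- the preimage of `p.ker` under `b`
  have h4 : Nat.card c.ker = p.ker.relIndex (p.ker.comap b) := by
    have e : (p.ker.comap b).map p = c.ker := by
      ext y
      constructor
      · rintro ⟨x, hx, rfl⟩
        change c (p x) = 0
        rw [← hbc]; exact hx
      · intro hy
        obtain ⟨x, rfl⟩ := hp y
        refine ⟨x, ?_, rfl⟩
        change p (b x) = 0
        rw [hbc]; exact hy
    rw [← e]
    have := AddSubgroup.index_ker (p.comp (p.ker.comap b).subtype)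
    have e2 : (p.comp (p.ker.comap b).subtype).ker = p.ker.addSubgroupOf (p.ker.comap b) := by
      ext x; rfl
    rw [e2] at this
    rw [AddSubgroup.relIndex, this]
    congr 2
    ext y
    constructor
    · rintro ⟨x, hx, rfl⟩
      exact ⟨⟨x, hx⟩, rfl⟩
    · rintro ⟨x, rfl⟩
      exact ⟨x.1, x.2, rfl⟩
  have hle : p.ker ≤ p.ker.comap b := AddSubgroup.map_le_iff_le_comap.1 hker
  have hle2 : b.ker ≤ p.ker.comap b := fun x hx => by
    change p (b x) = 0
    rw [(AddMonoidHom.mem_ker).1 hx, map_zero]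
  -- (b⁻¹K : K) = (b⁻¹ K : K + ker b) (K + ker b : K)
  have h5 : p.ker.relIndex (p.ker.comap b) =
      p.ker.relIndex b.ker * (p.ker ⊔ b.ker).relIndex (p.ker.comap b) := by
    rw [← AddSubgroup.relIndex_sup_right b.ker p.ker, sup_comm b.ker,
      AddSubgroup.relIndex_mul_relIndex _ _ _ le_sup_left (sup_le hle hle2)]
  -- (b⁻¹K : K + ker b) = (K ∩ range b : b K)
  have h6 : (p.ker ⊔ b.ker).relIndex (p.ker.comap b) =
      (p.ker.map b).relIndex (b.range ⊓ p.ker) := by
    have e1 : (p.ker.map b).comap b = p.ker ⊔ b.ker := AddSubgroup.comap_map_eq _ _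
    have e2 : (p.ker.comap b).map b = b.range ⊓ p.ker := by
      rw [AddSubgroup.map_comap_eq]
    rw [← e1, ← e2, AddSubgroup.relIndex_comap]
  have h7 : a.range.index = (p.ker.map b).relIndex (b.range ⊓ p.ker) * b.range.relIndex p.ker := by
    rw [h2, ← AddSubgroup.inf_relIndex_right b.range,
      AddSubgroup.relIndex_mul_relIndex _ _ _ (le_inf ?_ hker) inf_le_right]
    rintro _ ⟨x, -, rfl⟩
    exact ⟨x, rfl⟩
  have h8 : Nat.card b.ker = Nat.card ↥(b.ker ⊓ p.ker) * p.ker.relIndex b.ker := by
    rw [card_eq_inf_mul_relIndex p.ker b.ker, inf_comm]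
  rw [index_eq_relIndex_mul b.range p.ker, ← h1, h7, h3, h4, h5, h6, h8]
  ring

theorem idx_ses (n : ℕ) (i : A →+ B) (hi : Function.Injective i) (p : B →+ C)
    (hp : Function.Surjective p) (he : i.range = p.ker) :
    idx n B * (tor n A * tor n C) = idx n A * idx n C * tor n B :=
  ses_card i hi p hp he _ _ _ (fun x => (map_nsmul i n x).symm) (fun x => map_nsmul p n x)

theorem idx_congr (n : ℕ) (e : A ≃+ B) : idx n A = idx n B := by
  unfold idx
  rw [← AddSubgroup.index_map_equiv _ e]
  congr 1
  ext y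
  constructor
  · rintro ⟨_, ⟨x, rfl⟩, rfl⟩
    exact ⟨e x, (map_nsmul e n x).symm⟩
  · rintro ⟨x, rfl⟩
    refine ⟨n • e.symm x, ⟨_, rfl⟩, ?_⟩
    change e (n • e.symm x) = n • x
    rw [map_nsmul, e.apply_symm_apply]

theorem tor_congr (n : ℕ) (e : A ≃+ B) : tor n A = tor n B := by
  refine Nat.card_congr (Equiv.ofBijective (fun x => ⟨e x.1, ?_⟩) ⟨?_, ?_⟩)
  · change n • e x.1 = 0
    rw [← map_nsmul, show n • x.1 = 0 from x.2, map_zero]
  · intro x y hxy
    exact Subtype.ext (e.injective (congrArg Subtype.val hxy))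
  · rintro ⟨y, hy⟩
    refine ⟨⟨e.symm y, ?_⟩, Subtype.ext (e.apply_symm_apply y)⟩
    change n • e.symm y = 0
    rw [← map_nsmul, show n • y = 0 from hy, map_zero]

/-- finite groups have index quotient one -/
theorem idx_eq_tor_of_finite (n : ℕ) (A : Type*) [AddCommGroup A] [Finite A] : idx n A = tor n A := by
  have h1 := AddSubgroup.card_mul_index (nsmulAddMonoidHom (α := A) n).range
  have h2 := AddSubgroup.card_mul_index (nsmulAddMonoidHom (α := A) n).ker
  rw [AddSubgroup.index_ker] at h2
  have h3 : 0 < Nat.card (nsmulAddMonoidHom (α := A) n).range := Nat.card_pos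
  unfold idx tor
  refine Nat.eq_of_mul_eq_mul_left h3 ?_
  rw [h1, ← h2, mul_comm]

end Groth.Agent.Etbc.H226.IndexQuot
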