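import Mathlib.NumberTheory.NumberField.Basic
import Mathlib.RingTheory.DedekindDomain.AdicValuation
import Mathlib.RingTheory.AdjoinRoot
import Mathlib.RingTheory.Norm.Basic
import Mathlib.RingTheory.Henselian
import Mathlib.RingTheory.DiscreteValuationRing.Basic
import Mathlib.RingTheory.LocalRing.ResidueField.Defs

/-!
# Common definitions for the number field package

* `normGroup ℓ b`: the subgroup of `kˣ` of norms of units of `k[X]/(X^ℓ - b)`;
* `IsLF k`: `k` is the fraction field of a henselian discrete valuation ring of characteristic zero
  with finite residue field;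
* `ClTriv S`: triviality of the `S`-class group of a number field, by elements.
-/

set_option autoImplicit false
universe u
open NumberField IsDedekindDomain Polynomial

namespace Groth.Agent.Etbc.H226.NFDefs

/-- the subgroup of norms of units of `k[X]/(X^ℓ - b)` -/
noncomputable def normGroup (ℓ : ℕ) {k : Type*} [Field k] (b : k) : Subgroup kˣ :=
  (Units.map (Algebra.norm k : AdjoinRoot (X ^ ℓ - C b : k[X]) →* k)).range

/-- `k` is the fraction field of a henselian discrete valuation ring of characteristic zero with
finite residue field -/
def IsLF (k : Type u) [Field k] : Prop :=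
  CharZero k ∧ ∃ (R : Type u) (_ : CommRing R) (_ : IsDomain R) (_ : Algebra R k)
    (_ : IsDiscreteValuationRing R), HenselianLocalRing R ∧ IsFractionRing R k ∧
      Finite (IsLocalRing.ResidueField R)

/-- triviality of the `S`-class group, by elements -/
def ClTriv {K : Type*} [Field K] [NumberField K] (S : Set (HeightOneSpectrum (𝓞 K))) : Prop :=
  ∀ v ∉ S, ∃ π : Kˣ, v.valuation K (π : K) = WithZero.exp (-1 : ℤ) ∧
    ∀ v' ∉ S, v' ≠ v → v'.valuation K (π : K) = 1

end Groth.Agent.Etbc.H226.NFDefs
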