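import Mathlib.NumberTheory.NumberField.Basic
import Mathlib.FieldTheory.Galois.IsGaloisGroup
import Mathlib.RingTheory.DedekindDomain.AdicValuation
import Mathlib.NumberTheory.RamificationInertia.Galois
import Mathlib.NumberTheory.RamificationInertia.Valuation
import Mathlib.RingTheory.Ideal.Pointwise

/-!
# Galois action on the finite places of a number field

* `act σ w`: the action of `Gal(L/K)` on the height one spectrum of `𝓞 L`;
* `act_valuation`: `(act σ w).valuation L (σ x) = w.valuation L x`;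
* `exists_act_eq`: transitivity on the places above a given place;
* `places S`: the places of `L` above the places in `S`, and their number when `[L : K] = ℓ`.
-/

set_option autoImplicit false
set_option linter.unusedSectionVars false
open NumberField IsDedekindDomain
open scoped Pointwise

namespace Groth.Agent.Etbc.H226.Places

variable {K L : Type*} [Field K] [NumberField K] [Field L] [NumberField L] [Algebra K L]

/-- action of the Galois group on the finite places -/
noncomputable def act (σ : Gal(L/K)) (w : HeightOneSpectrum (𝓞 L)) : HeightOneSpectrum (𝓞 L) where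
  asIdeal := σ • w.asIdeal
  isPrime := w.isPrime.smul σ
  ne_bot h := w.ne_bot (by
    have := congrArg (fun I : Ideal (𝓞 L) => σ⁻¹ • I) h
    simpa [Ideal.smul_bot] using this)

theorem act_asIdeal (σ : Gal(L/K)) (w : HeightOneSpectrum (𝓞 L)) :
    (act σ w).asIdeal = σ • w.asIdeal := rfl

theorem act_one (w : HeightOneSpectrum (𝓞 L)) : act (1 : Gal(L/K)) w = w :=
  HeightOneSpectrum.ext (by rw [act_asIdeal, one_smul])

theorem act_mul (σ τ : Gal(L/K)) (w : HeightOneSpectrum (𝓞 L)) :
    act (σ * τ) w = act σ (act τ w) :=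
  HeightOneSpectrum.ext (by rw [act_asIdeal, act_asIdeal, act_asIdeal, mul_smul])

theorem act_intValuation (σ : Gal(L/K)) (w : HeightOneSpectrum (𝓞 L)) (r : 𝓞 L) :
    (act σ w).intValuation (σ • r) = w.intValuation r := by
  by_cases hr : r = 0
  · subst hr; rw [smul_zero, map_zero, map_zero]
  have hr' : σ • r ≠ 0 := by rwa [Ne, smul_eq_zero_iff_eq]
  rw [HeightOneSpectrum.intValuation_eq_exp_neg_multiplicity _ hr,
    HeightOneSpectrum.intValuation_eq_exp_neg_multiplicity _ hr']
  have h1 : Ideal.span {σ • r} = σ • Ideal.span {r} := by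
    rw [Ideal.smul_closure]; congr 1; ext; simp
  rw [h1, act_asIdeal]
  congr 3
  exact multiplicity_map_eq (MulDistribMulAction.toMulEquiv (Ideal (𝓞 L)) σ)

theorem act_valuation (σ : Gal(L/K)) (w : HeightOneSpectrum (𝓞 L)) (x : L) :
    (act σ w).valuation L (σ x) = w.valuation L x := by
  obtain ⟨a, b, hb, rfl⟩ := IsFractionRing.div_surjective (A := 𝓞 L) x
  have h (c : 𝓞 L) : σ (algebraMap (𝓞 L) L c) = algebraMap (𝓞 L) L (σ • c) := rfl
  rw [map_div₀ σ, h, h, map_div₀, map_div₀, HeightOneSpectrum.valuation_of_algebraMap,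
    HeightOneSpectrum.valuation_of_algebraMap, HeightOneSpectrum.valuation_of_algebraMap,
    HeightOneSpectrum.valuation_of_algebraMap, act_intValuation, act_intValuation]

theorem smulCommClass : SMulCommClass Gal(L/K) (𝓞 K) (𝓞 L) where
  smul_comm σ a x := by
    apply RingOfIntegers.coe_injective
    change σ ((a • x : 𝓞 L) : L) = ((a • (σ • x) : 𝓞 L) : L)
    have h (y : 𝓞 L) : ((a • y : 𝓞 L) : L) = algebraMap K L (a : K) * (y : L) := by
      rw [Algebra.smul_def]; rfl
    rw [h, h, map_mul, σ.commutes]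
    rfl

instance act_liesOver (σ : Gal(L/K)) (v : HeightOneSpectrum (𝓞 K)) (w : HeightOneSpectrum (𝓞 L))
    [w.asIdeal.LiesOver v.asIdeal] : (act σ w).asIdeal.LiesOver v.asIdeal := by
  have := smulCommClass (K := K) (L := L)
  rw [act_asIdeal]; infer_instance

theorem exists_act_eq [IsGalois K L] (v : HeightOneSpectrum (𝓞 K)) (w w' : HeightOneSpectrum (𝓞 L))
    [w.asIdeal.LiesOver v.asIdeal] [w'.asIdeal.LiesOver v.asIdeal] :
    ∃ σ : Gal(L/K), act σ w = w' := by
  obtain ⟨σ, hσ⟩ := Ideal.exists_smul_eq_of_isGaloisGroup v.asIdeal w.asIdeal w'.asIdeal Gal(L/K)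
  exact ⟨σ, HeightOneSpectrum.ext hσ⟩

/-- the places above a set of places -/
def places (L : Type*) [Field L] [NumberField L] [Algebra K L] (S : Set (HeightOneSpectrum (𝓞 K))) :
    Set (HeightOneSpectrum (𝓞 L)) :=
  {w | ∃ v ∈ S, w.asIdeal.LiesOver v.asIdeal}

/-- the place below -/
noncomputable def below (K : Type*) {L : Type*} [Field K] [NumberField K] [Field L] [NumberField L]
    [Algebra K L] (w : HeightOneSpectrum (𝓞 L)) : HeightOneSpectrum (𝓞 K) := w.under (𝓞 K)

instance below_liesOver (w : HeightOneSpectrum (𝓞 L)) :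
    w.asIdeal.LiesOver (below K w).asIdeal := ⟨rfl⟩

theorem eq_below (v : HeightOneSpectrum (𝓞 K)) (w : HeightOneSpectrum (𝓞 L))
    [h : w.asIdeal.LiesOver v.asIdeal] : v = below K w :=
  HeightOneSpectrum.ext (by rw [h.over]; rfl)

theorem liesOver_iff (v : HeightOneSpectrum (𝓞 K)) (w : HeightOneSpectrum (𝓞 L)) :
    w.asIdeal.LiesOver v.asIdeal ↔ below K w = v :=
  ⟨fun _ => (eq_below v w).symm, fun h => h ▸ below_liesOver w⟩

theorem mem_places_iff (S : Set (HeightOneSpectrum (𝓞 K))) (w : HeightOneSpectrum (𝓞 L)) :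
    w ∈ places L S ↔ below K w ∈ S := by
  constructor
  · rintro ⟨v, hv, hw⟩
    rw [liesOver_iff] at hw
    rwa [hw]
  · intro h
    exact ⟨_, h, below_liesOver w⟩

theorem act_mem_places (σ : Gal(L/K)) (S : Set (HeightOneSpectrum (𝓞 K)))
    (w : HeightOneSpectrum (𝓞 L)) : act σ w ∈ places L S ↔ w ∈ places L S := by
  rw [mem_places_iff, mem_places_iff]
  have : below K (act σ w) = below K w := by
    rw [← liesOver_iff]; infer_instance
  rw [this]

theorem exists_above (v : HeightOneSpectrum (𝓞 K)) :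
    ∃ w : HeightOneSpectrum (𝓞 L), w.asIdeal.LiesOver v.asIdeal := by
  obtain ⟨P, hP, hPv⟩ := Ideal.exists_maximal_ideal_liesOver_of_isIntegral (S := 𝓞 L) v.asIdeal
  exact ⟨⟨P, hP.isPrime, Ideal.ne_bot_of_liesOver_of_ne_bot v.ne_bot P⟩, hPv⟩

theorem bijOn (v : HeightOneSpectrum (𝓞 K)) :
    Set.BijOn (fun w : HeightOneSpectrum (𝓞 L) => w.asIdeal)
      {w : HeightOneSpectrum (𝓞 L) | w.asIdeal.LiesOver v.asIdeal} (v.asIdeal.primesOver (𝓞 L)) :=
  ⟨fun w hw => ⟨w.isPrime, hw⟩, fun _ _ _ _ h => HeightOneSpectrum.ext h,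
    fun P hP => ⟨⟨P, hP.1, by
      have := hP.2
      exact Ideal.ne_bot_of_liesOver_of_ne_bot v.ne_bot P⟩, hP.2, rfl⟩⟩

theorem above_finite (v : HeightOneSpectrum (𝓞 K)) :
    {w : HeightOneSpectrum (𝓞 L) | w.asIdeal.LiesOver v.asIdeal}.Finite :=
  (bijOn v).finite_iff_finite.mpr (IsDedekindDomain.primesOver_finite v.asIdeal (𝓞 L))

theorem places_eq_iUnion (S : Set (HeightOneSpectrum (𝓞 K))) :
    places L S = ⋃ v ∈ S, {w : HeightOneSpectrum (𝓞 L) | w.asIdeal.LiesOver v.asIdeal} := by
  ext w; simp [places]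

theorem places_finite {S : Set (HeightOneSpectrum (𝓞 K))} (hS : S.Finite) :
    (places L S).Finite := by
  rw [places_eq_iUnion]
  exact hS.biUnion fun v _ => above_finite v

theorem above_ncard_dvd [IsGalois K L] (v : HeightOneSpectrum (𝓞 K)) :
    {w : HeightOneSpectrum (𝓞 L) | w.asIdeal.LiesOver v.asIdeal}.ncard ∣ Module.finrank K L := by
  rw [(bijOn v).ncard_eq, ← IsGaloisGroup.card_eq_finrank Gal(L/K) K L,
    ← Ideal.ncard_primesOver_mul_ramificationIdxIn_mul_inertiaDegIn v.asIdeal (𝓞 L) Gal(L/K)]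
  exact dvd_mul_right _ _

theorem above_ncard_pos (v : HeightOneSpectrum (𝓞 K)) :
    {w : HeightOneSpectrum (𝓞 L) | w.asIdeal.LiesOver v.asIdeal}.ncard ≠ 0 := by
  obtain ⟨w, hw⟩ := exists_above (L := L) v
  exact Set.ncard_ne_zero_of_mem hw (above_finite v)

theorem above_ncard_eq_one_iff (v : HeightOneSpectrum (𝓞 K)) :
    {w : HeightOneSpectrum (𝓞 L) | w.asIdeal.LiesOver v.asIdeal}.ncard = 1 ↔
      ∃! w : HeightOneSpectrum (𝓞 L), w.asIdeal.LiesOver v.asIdeal := by
  rw [Set.ncard_eq_one]
  constructor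
  · rintro ⟨a, ha⟩
    have h (w : HeightOneSpectrum (𝓞 L)) : w.asIdeal.LiesOver v.asIdeal ↔ w = a := by
      have := Set.ext_iff.mp ha w
      simpa using this
    exact ⟨a, (h a).mpr rfl, fun w hw => (h w).mp hw⟩
  · rintro ⟨a, ha, h⟩
    exact ⟨a, Set.ext fun w => ⟨fun hw => h w hw, fun hw => by rw [Set.mem_singleton_iff.mp hw]; exact ha⟩⟩

/-- counting the places above `S` in a Galois extension of prime degree -/
theorem places_ncard [IsGalois K L] {ℓ : ℕ} (hℓ : ℓ.Prime) (hdeg : Module.finrank K L = ℓ)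
    {S : Set (HeightOneSpectrum (𝓞 K))} (hS : S.Finite) :
    (places L S).ncard + ℓ * {v ∈ S | ∃! w : HeightOneSpectrum (𝓞 L),
        w.asIdeal.LiesOver v.asIdeal}.ncard =
      {v ∈ S | ∃! w : HeightOneSpectrum (𝓞 L), w.asIdeal.LiesOver v.asIdeal}.ncard
        + ℓ * S.ncard := by
  classical
  induction S, hS using Set.Finite.induction_on with
  | empty => simp [places]
  | @insert a T ha hT ih =>
    have h1 : places L (insert a T) =
        {w : HeightOneSpectrum (𝓞 L) | w.asIdeal.LiesOver a.asIdeal} ∪ places L T := by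
      ext w
      simp [places]
    have h2 : Disjoint {w : HeightOneSpectrum (𝓞 L) | w.asIdeal.LiesOver a.asIdeal}
        (places L T) := by
      rw [Set.disjoint_left]
      intro w hw hw'
      rw [mem_places_iff] at hw'
      have hw2 := (liesOver_iff a w).mp hw
      exact ha (hw2 ▸ hw')
    have h3 : (places L (insert a T)).ncard =
        {w : HeightOneSpectrum (𝓞 L) | w.asIdeal.LiesOver a.asIdeal}.ncard
          + (places L T).ncard := by
      rw [h1, Set.ncard_union_eq h2 (above_finite a) (places_finite hT)]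
    rw [h3, Set.ncard_insert_of_notMem ha hT]
    by_cases hu : ∃! w : HeightOneSpectrum (𝓞 L), w.asIdeal.LiesOver a.asIdeal
    · have h4 : {v ∈ insert a T | ∃! w : HeightOneSpectrum (𝓞 L), w.asIdeal.LiesOver v.asIdeal} =
          insert a {v ∈ T | ∃! w : HeightOneSpectrum (𝓞 L), w.asIdeal.LiesOver v.asIdeal} := by
        ext v
        simp only [Set.mem_insert_iff, Set.mem_ofPred_eq]
        constructor
        · rintro ⟨h | h, h'⟩
          · exact Or.inl h
          · exact Or.inr ⟨h, h'⟩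
        · rintro (h | ⟨h, h'⟩)
          · exact ⟨Or.inl h, h ▸ hu⟩
          · exact ⟨Or.inr h, h'⟩
      have h5 : a ∉ {v ∈ T | ∃! w : HeightOneSpectrum (𝓞 L), w.asIdeal.LiesOver v.asIdeal} :=
        fun h => ha h.1
      have h6 := (above_ncard_eq_one_iff a).mpr hu
      rw [h4, Set.ncard_insert_of_notMem h5 (hT.subset (Set.sep_subset _ _)), h6]
      linarith
    · have h4 : {v ∈ insert a T | ∃! w : HeightOneSpectrum (𝓞 L), w.asIdeal.LiesOver v.asIdeal} =
          {v ∈ T | ∃! w : HeightOneSpectrum (𝓞 L), w.asIdeal.LiesOver v.asIdeal} := by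
        ext v
        simp only [Set.mem_insert_iff, Set.mem_ofPred_eq]
        constructor
        · rintro ⟨h | h, h'⟩
          · exact absurd (h ▸ h') hu
          · exact ⟨h, h'⟩
        · rintro ⟨h, h'⟩
          exact ⟨Or.inr h, h'⟩
      have h6 : {w : HeightOneSpectrum (𝓞 L) | w.asIdeal.LiesOver a.asIdeal}.ncard = ℓ := by
        have h7 := above_ncard_dvd (L := L) a
        rw [hdeg] at h7
        rcases (Nat.dvd_prime hℓ).mp h7 with h | h
        · exact absurd ((above_ncard_eq_one_iff a).mp h) hu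
        · exact h
      rw [h4, h6]
      linarith

end Groth.Agent.Etbc.H226.Places
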