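import Mathlib.GroupTheory.SpecificGroups.Cyclic.Basic
import Mathlib.RingTheory.Norm.Basic
import Mathlib.RingTheory.Norm.Transitivity
import Mathlib.RingTheory.Norm.Defs
import Mathlib.FieldTheory.Galois.Basic
import Mathlib.LinearAlgebra.LinearIndependent.Basic

set_option autoImplicit false
namespace Groth.Agent.Etbc.H226.Hilbert90

variable {K L : Type*} [Field K] [Field L] [Algebra K L] [FiniteDimensional K L]

theorem orderOf_eq [IsGalois K L] {σ : Gal(L/K)} (hσ : ∀ τ, τ ∈ Subgroup.zpowers σ) :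
    orderOf σ = Module.finrank K L := by
  rw [orderOf_eq_card_of_forall_mem_zpowers hσ, IsGalois.card_aut_eq_finrank]

theorem prod_pow_eq_norm [IsGalois K L] {σ : Gal(L/K)} (hσ : ∀ τ, τ ∈ Subgroup.zpowers σ) (x : L) :
    ∏ i ∈ Finset.range (Module.finrank K L), (σ ^ i) x = algebraMap K L (Algebra.norm K x) := by
  classical
  rw [Algebra.norm_eq_prod_automorphisms, ← IsCyclic.image_range_orderOf hσ, Finset.prod_image,
    orderOf_eq hσ]
  rw [orderOf_eq hσ]
  intro i hi j hj hij
  have := pow_injOn_Iio_orderOf (x := σ)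
  rw [orderOf_eq hσ] at this
  exact this (by simpa using hi) (by simpa using hj) hij

theorem exists_div [IsGalois K L] {σ : Gal(L/K)} (hσ : ∀ τ, τ ∈ Subgroup.zpowers σ) {x : L}
    (hx : Algebra.norm K x = 1) : ∃ y : Lˣ, (y : L) / σ y = x := by
  classical
  set n := Module.finrank K L with hn
  have hn0 : 0 < n := Module.finrank_pos
  let b : ℕ → L := fun i => ∏ j ∈ Finset.range i, (σ ^ j) x
  have hli : LinearIndependent L (fun i : Fin n => (((σ ^ (i : ℕ) : Gal(L/K)) : L →* L) : L → L)) := by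
    refine (linearIndependent_monoidHom L L).comp (fun i : Fin n => ((σ ^ (i : ℕ) : Gal(L/K)) : L →* L)) ?_
    intro i j hij
    have h1 : σ ^ (i : ℕ) = σ ^ (j : ℕ) := by
      ext z; exact DFunLike.congr_fun hij z
    have := pow_injOn_Iio_orderOf (x := σ)
    rw [orderOf_eq hσ] at this
    exact Fin.ext (this i.2 j.2 h1)
  obtain ⟨z, hz⟩ : ∃ z, ∑ i ∈ Finset.range n, b i * (σ ^ i) z ≠ 0 := by
    by_contra! h
    have h1 := Fintype.linearIndependent_iff.mp hli (fun i => b i) (by
      ext z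
      rw [Finset.sum_apply]
      have := h z
      rw [← Fin.sum_univ_eq_sum_range (fun i => b i * (σ ^ i) z) n] at this
      exact this) ⟨0, hn0⟩
    simp [b] at h1
  set c := ∑ i ∈ Finset.range n, b i * (σ ^ i) z with hc
  refine ⟨Units.mk0 c hz, ?_⟩
  have hσc : σ c ≠ 0 := (map_ne_zero σ).mpr hz
  rw [Units.val_mk0, div_eq_iff hσc]
  have hbsucc (i : ℕ) : x * σ (b i) = b (i + 1) := by
    simp only [b]
    rw [map_prod, Finset.prod_range_succ']
    rw [mul_comm]
    congr 1
    refine Finset.prod_congr rfl fun j _ => ?_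
    rw [pow_succ']; rfl
  have hbn : b n = 1 := by
    simp only [b]; rw [prod_pow_eq_norm hσ, hx, map_one]
  have h2 : x * σ c = ∑ i ∈ Finset.range n, b (i + 1) * (σ ^ (i + 1)) z := by
    rw [hc, map_sum, Finset.mul_sum]
    refine Finset.sum_congr rfl fun i _ => ?_
    rw [map_mul, ← mul_assoc, hbsucc, pow_succ']; rfl
  rw [h2]
  have h3 := Finset.sum_range_succ (fun i => b i * (σ ^ i) z) n
  rw [Finset.sum_range_succ'] at h3
  have h4 : b n * (σ ^ n) z = b 0 * (σ ^ 0) z := by
    rw [hbn, hn, ← orderOf_eq hσ, pow_orderOf_eq_one]; simp [b]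
  rw [h4] at h3
  exact (add_right_cancel h3).symm

end Groth.Agent.Etbc.H226.Hilbert90
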