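import Mathlib.RingTheory.DedekindDomain.SInteger
import Mathlib.RingTheory.DedekindDomain.FiniteAdeleRing
import Groth.Agent.Etbc.H226.Hilbert90
import Groth.Agent.Etbc.H226.Places
import Groth.Agent.Etbc.H226.NFDefs

/-!
# Hilbert 90 for `S`-units

If the `S`-class group of `K` is trivial and the cyclic extension `L/K` is unramified outside `S`,
then an `S`-unit of `L` of norm `1` is of the form `y / σ y` with an `S`-unit `y`.
-/

set_option autoImplicit false
set_option linter.unusedSectionVars false
open NumberField IsDedekindDomain Groth.Agent.Etbc.H226.Places Groth.Agent.Etbc.H226.NFDefs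
open scoped Pointwise

namespace Groth.Agent.Etbc.H226.SUnits

section

variable {K : Type*} [Field K] [NumberField K]

theorem support_finite (x : Kˣ) :
    {v : HeightOneSpectrum (𝓞 K) | v.valuation K (x : K) ≠ 1}.Finite := by
  have h1 := HeightOneSpectrum.Support.finite (𝓞 K) (x : K)
  have h2 := HeightOneSpectrum.Support.finite (𝓞 K) ((x⁻¹ : Kˣ) : K)
  refine (h1.union h2).subset ?_
  intro v hv
  rcases lt_or_gt_of_ne hv with h | h
  · right
    change 1 < v.valuation K ((x⁻¹ : Kˣ) : K)
    rw [Units.val_inv_eq_inv_val, map_inv₀]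
    exact (one_lt_inv₀ (by rw [zero_lt_iff, Valuation.ne_zero_iff]; exact x.ne_zero)).mpr h
  · left; exact h

theorem exists_of_clTriv {S : Set (HeightOneSpectrum (𝓞 K))} (hcl : ClTriv S)
    (n : HeightOneSpectrum (𝓞 K) → ℤ) {T : Set (HeightOneSpectrum (𝓞 K))} (hT : T.Finite)
    (hn : ∀ v ∉ S, v ∉ T → n v = 0) :
    ∃ z : Kˣ, ∀ v ∉ S, v.valuation K (z : K) = WithZero.exp (n v) := by
  classical
  induction T, hT using Set.Finite.induction_on generalizing n with
  | empty => exact ⟨1, fun v hv => by rw [hn v hv (Set.notMem_empty v)]; simp⟩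
  | @insert a T ha hT ih =>
    by_cases haS : a ∈ S
    · exact ih n fun v hv hvT => hn v hv (by
        rw [Set.mem_insert_iff, not_or]
        exact ⟨fun h => hv (h ▸ haS), hvT⟩)
    · obtain ⟨π, hπ1, hπ2⟩ := hcl a haS
      obtain ⟨z, hz⟩ := ih (Function.update n a 0) (fun v hv hvT => by
        by_cases hva : v = a
        · subst hva; simp
        · rw [Function.update_of_ne hva]
          exact hn v hv (by rw [Set.mem_insert_iff, not_or]; exact ⟨hva, hvT⟩))
      refine ⟨z * π ^ (-(n a)), fun v hv => ?_⟩
      rw [Units.val_mul, map_mul, hz v hv, Units.val_zpow_eq_zpow_val, map_zpow₀]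
      by_cases hva : v = a
      · subst hva
        rw [hπ1, Function.update_self, ← WithZero.exp_zsmul, ← WithZero.exp_add]
        congr 1
        simp
      · rw [Function.update_of_ne hva, hπ2 v hv hva, one_zpow, mul_one]

end

variable {K L : Type*} [Field K] [NumberField K] [Field L] [NumberField L] [Algebra K L]

/-- elements of `L` with Galois invariant valuations outside `S` come from `K` up to `S`-units -/
theorem exists_same_valuation [IsGalois K L] {S : Set (HeightOneSpectrum (𝓞 K))} (hcl : ClTriv S)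
    (hunr : ∀ v ∉ S, ∀ w : HeightOneSpectrum (𝓞 L), w.asIdeal.LiesOver v.asIdeal →
      ∀ x : K, w.valuation L (algebraMap K L x) = v.valuation K x) (y : Lˣ)
    (hy : ∀ (τ : Gal(L/K)) (w : HeightOneSpectrum (𝓞 L)), below K w ∉ S →
      w.valuation L (τ (y : L)) = w.valuation L (y : L)) :
    ∃ z : Kˣ, ∀ w : HeightOneSpectrum (𝓞 L), below K w ∉ S →
      w.valuation L (algebraMap K L (z : K)) = w.valuation L (y : L) := by
  choose f hf using exists_above (K := K) (L := L)
  have hne (w : HeightOneSpectrum (𝓞 L)) : w.valuation L (y : L) ≠ 0 := by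
    rw [Valuation.ne_zero_iff]; exact y.ne_zero
  obtain ⟨z, hz⟩ := exists_of_clTriv hcl (fun v => ((f v).valuation L (y : L)).log)
    (T := below K '' {w | w.valuation L (y : L) ≠ 1}) ((support_finite y).image _) (by
      intro v hv hvT
      have h1 : (f v).valuation L (y : L) = 1 := by
        by_contra h
        exact hvT ⟨f v, h, (liesOver_iff v (f v)).mp (hf v)⟩
      simp [h1])
  refine ⟨z, fun w hw => ?_⟩
  rw [hunr (below K w) hw w (below_liesOver w) z, hz _ hw, WithZero.exp_log (hne _)]
  have := hf (below K w)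
  obtain ⟨σ, hσ⟩ := exists_act_eq (below K w) (f (below K w)) w
  have h1 := act_valuation σ (f (below K w)) (y : L)
  rw [hσ] at h1
  rw [← h1, hy σ w hw]

theorem unit_iff (S : Set (HeightOneSpectrum (𝓞 K))) (x : Kˣ) :
    Units.map (algebraMap K L : K →* L) x ∈ (places L S).unit L ↔ x ∈ S.unit K := by
  constructor
  · intro h v hv
    obtain ⟨w, hw⟩ := exists_above (L := L) v
    have h1 : w ∉ places L S := by
      rw [mem_places_iff, (liesOver_iff v w).mp hw]; exact hv
    have h2 : w.valuation L (algebraMap K L (x : K)) = 1 := h w h1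
    have h3 := HeightOneSpectrum.valuation_liesOver L v w (x : K)
    rw [h2] at h3
    exact (pow_eq_one_iff_left
      (Ideal.IsDedekindDomain.ramificationIdx'_ne_zero_of_liesOver w.asIdeal v.ne_bot)).mp h3
  · intro h w hw
    rw [mem_places_iff] at hw
    have h1 : (below K w).valuation K (x : K) = 1 := h _ hw
    have h3 := HeightOneSpectrum.valuation_liesOver L (below K w) w (x : K)
    rw [h1, one_pow] at h3
    exact h3.symm

theorem map_mem_unit (S : Set (HeightOneSpectrum (𝓞 K))) (σ : Gal(L/K)) (x : Lˣ)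
    (hx : x ∈ (places L S).unit L) :
    Units.map (σ : L →* L) x ∈ (places L S).unit L := by
  intro w hw
  have h1 : act σ⁻¹ w ∉ places L S := by rwa [act_mem_places]
  have h2 := hx _ h1
  rw [← act_valuation σ (act σ⁻¹ w) (x : L), ← act_mul, mul_inv_cancel, act_one] at h2
  exact h2

theorem hilbert90 [IsGalois K L] {S : Set (HeightOneSpectrum (𝓞 K))} (hcl : ClTriv S)
    (hunr : ∀ v ∉ S, ∀ w : HeightOneSpectrum (𝓞 L), w.asIdeal.LiesOver v.asIdeal →
      ∀ x : K, w.valuation L (algebraMap K L x) = v.valuation K x)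
    (σ : Gal(L/K)) (hσ : ∀ τ, τ ∈ Subgroup.zpowers σ) (x : Lˣ) (hx : x ∈ (places L S).unit L)
    (hN : Algebra.norm K (x : L) = 1) :
    ∃ y : Lˣ, y ∈ (places L S).unit L ∧ Units.map (σ : L →* L) y / y = x := by
  have hN' : Algebra.norm K ((x⁻¹ : Lˣ) : L) = 1 := by
    rw [Units.val_inv_eq_inv_val, Algebra.norm_inv, hN, inv_one]
  obtain ⟨y, hy⟩ := Hilbert90.exists_div hσ hN'
  have hne (w : HeightOneSpectrum (𝓞 L)) : w.valuation L (y : L) ≠ 0 := by
    rw [Valuation.ne_zero_iff]; exact y.ne_zero
  have hne' (w : HeightOneSpectrum (𝓞 L)) (τ : Gal(L/K)) : w.valuation L (τ (y : L)) ≠ 0 := by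
    rw [Valuation.ne_zero_iff, EmbeddingLike.map_ne_zero_iff]; exact y.ne_zero
  have h0 (w : HeightOneSpectrum (𝓞 L)) (hw : below K w ∉ S) :
      w.valuation L (σ (y : L)) = w.valuation L (y : L) := by
    have h1 : w.valuation L ((x⁻¹ : Lˣ) : L) = 1 :=
      (inv_mem hx) w (by rwa [mem_places_iff])
    rw [← hy, map_div₀, div_eq_one_iff_eq (hne' w σ)] at h1
    exact h1.symm
  have hact (w : HeightOneSpectrum (𝓞 L)) (τ : Gal(L/K)) : below K (act τ w) = below K w := by
    rw [← liesOver_iff]; infer_instance
  have key (w : HeightOneSpectrum (𝓞 L)) (τ τ' : Gal(L/K)) :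
      w.valuation L ((τ * τ') (y : L)) = (act τ⁻¹ w).valuation L (τ' (y : L)) := by
    rw [← act_valuation τ (act τ⁻¹ w), ← act_mul, mul_inv_cancel, act_one]
    rfl
  let H : Subgroup Gal(L/K) :=
    { carrier := {τ | ∀ w : HeightOneSpectrum (𝓞 L), below K w ∉ S →
        w.valuation L (τ (y : L)) = w.valuation L (y : L)}
      mul_mem' := by
        intro τ τ' h h' w hw
        rw [key, h' _ (by rwa [hact]), ← h w hw]
        have := key w τ 1
        rw [mul_one] at this
        exact this.symm
      one_mem' := fun w _ => rfl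
      inv_mem' := by
        intro τ h w hw
        have h1 := key w τ⁻¹ τ
        have h2 := key w τ⁻¹ 1
        rw [inv_inv, h _ (by rwa [hact])] at h1
        rw [inv_inv, mul_one] at h2
        rw [inv_mul_cancel] at h1
        change w.valuation L (τ⁻¹ (y : L)) = _
        rw [h2]
        exact h1.symm }
  have hH : H = ⊤ := by
    rw [eq_top_iff]
    intro τ _
    have h1 : Subgroup.zpowers σ ≤ H := by
      rw [Subgroup.zpowers_le]; exact h0
    exact h1 (hσ τ)
  obtain ⟨z, hz⟩ := exists_same_valuation hcl hunr y (fun τ w hw => by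
    have : τ ∈ H := hH ▸ Subgroup.mem_top τ
    exact this w hw)
  refine ⟨y / Units.map (algebraMap K L : K →* L) z, fun w hw => ?_, ?_⟩
  · rw [mem_places_iff] at hw
    have h1 := hz w hw
    change w.valuation L ((y / Units.map (algebraMap K L : K →* L) z : Lˣ) : L) = 1
    rw [Units.val_div_eq_div_val, map_div₀]
    change w.valuation L (y : L) / w.valuation L (algebraMap K L (z : K)) = 1
    rw [h1, div_self (hne w)]
  · have h1 : Units.map (σ : L →* L) (Units.map (algebraMap K L : K →* L) z) =
        Units.map (algebraMap K L : K →* L) z := by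
      apply Units.ext
      exact σ.commutes (z : K)
    rw [map_div, h1, div_div_div_cancel_right]
    have h2 : x⁻¹ = y / Units.map (σ : L →* L) y := by
      apply Units.ext
      rw [← hy, Units.val_div_eq_div_val]
      rfl
    rw [← inv_inj, h2, inv_div]

end Groth.Agent.Etbc.H226.SUnits
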