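import Mathlib.NumberTheory.NumberField.InfinitePlace.TotallyRealComplex
import Groth.Agent.Etbc.H226.SUnits
import Groth.Agent.Etbc.H162.HerbP
import Groth.Agent.Etbc.H136.SUnit

/-!
# The index of the norms of `S`-units (the "first inequality")
-/

set_option autoImplicit false
set_option linter.unusedSectionVars false
set_option linter.dupNamespace false
open NumberField IsDedekindDomain Groth.Agent.Etbc.H226.Places Groth.Agent.Etbc.H226.NFDefs
  Groth.Agent.Etcore.Herbrand

namespace Groth.Agent.Etbc.H226.D1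

variable {K L : Type*} [Field K] [NumberField K] [Field L] [NumberField L] [Algebra K L]

section module

variable (S : Set (HeightOneSpectrum (𝓞 K)))

/-- the value of an element of the additive group of `S`-units -/
def val (m : Additive ((places L S).unit L)) : L := ((m.toMul : Lˣ) : L)

theorem val_injective : Function.Injective (val (L := L) S) := by
  intro m m' h
  apply Additive.toMul.injective
  apply Subtype.ext
  exact Units.ext h

theorem val_add (m m' : Additive ((places L S).unit L)) : val S (m + m') = val S m * val S m' := rfl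

theorem val_zero : val (L := L) S 0 = 1 := rfl

theorem val_ne_zero (m : Additive ((places L S).unit L)) : val S m ≠ 0 := Units.ne_zero _

theorem val_sum {ι : Type*} (s : Finset ι) (f : ι → Additive ((places L S).unit L)) :
    val S (∑ i ∈ s, f i) = ∏ i ∈ s, val S (f i) := by
  classical
  induction s using Finset.induction_on with
  | empty => simp [val_zero]
  | insert a s ha ih => rw [Finset.sum_insert ha, val_add, ih, Finset.prod_insert ha]

/-- action of `σ` on the `S`-units of `L` -/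
noncomputable def sig (σ : Gal(L/K)) : AddMonoid.End (Additive ((places L S).unit L)) :=
  MonoidHom.toAdditive (((Units.map (σ : L →* L)).comp ((places L S).unit L).subtype).codRestrict _
    (fun x => SUnits.map_mem_unit S σ _ x.2))

theorem val_sig (σ : Gal(L/K)) (m : Additive ((places L S).unit L)) :
    val S (sig S σ m) = σ (val S m) := rfl

theorem val_sig_pow (σ : Gal(L/K)) (n : ℕ) (m : Additive ((places L S).unit L)) :
    val S ((sig S σ ^ n) m) = (σ ^ n) (val S m) := by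
  induction n with
  | zero => rfl
  | succ n ih =>
    rw [pow_succ', pow_succ']
    change val S (sig S σ ((sig S σ ^ n) m)) = σ ((σ ^ n) (val S m))
    rw [val_sig, ih]

/-- inclusion of the `S`-units of `K` -/
noncomputable def inc : Additive (S.unit K) →+ Additive ((places L S).unit L) :=
  MonoidHom.toAdditive (((Units.map (algebraMap K L : K →* L)).comp (S.unit K).subtype).codRestrict
    _ (fun x => (SUnits.unit_iff S _).mpr x.2))

theorem val_inc (u : Additive (S.unit K)) :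
    val S (inc (L := L) S u) = algebraMap K L ((u.toMul : Kˣ) : K) := rfl

theorem inc_injective : Function.Injective (inc (L := L) S) := by
  intro u u' h
  apply Additive.toMul.injective
  apply Subtype.ext
  apply Units.ext
  apply (algebraMap K L).injective
  rw [← val_inc (L := L), ← val_inc (L := L), h]

end module

variable [IsGalois K L]

theorem mem_range_of_fixed {σ : Gal(L/K)} (hσ : ∀ τ, τ ∈ Subgroup.zpowers σ) {x : L}
    (hx : σ x = x) : x ∈ Set.range (algebraMap K L) := by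
  rw [IsGalois.mem_range_algebraMap_iff_fixed]
  intro τ
  have h1 : Subgroup.zpowers σ ≤ MulAction.stabilizer Gal(L/K) x := by
    rw [Subgroup.zpowers_le]; exact hx
  exact h1 (hσ τ)

theorem ker_sub_one (S : Set (HeightOneSpectrum (𝓞 K))) {σ : Gal(L/K)}
    (hσ : ∀ τ, τ ∈ Subgroup.zpowers σ) :
    AddMonoidHom.ker (sig S σ - 1) = (inc (L := L) S).range := by
  ext m
  have h0 : m ∈ AddMonoidHom.ker (sig S σ - 1) ↔ sig S σ m = m := by
    change sig S σ m - m = 0 ↔ _
    rw [sub_eq_zero]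
  rw [h0]
  constructor
  · intro h
    have h1 : σ (val S m) = val S m := by rw [← val_sig, h]
    obtain ⟨x, hx⟩ := mem_range_of_fixed hσ h1
    have hx0 : x ≠ 0 := by
      rintro rfl
      rw [map_zero] at hx
      exact val_ne_zero S m hx.symm
    have h2 : Units.mk0 x hx0 ∈ S.unit K := by
      rw [← SUnits.unit_iff (L := L)]
      have h3 : Units.map (algebraMap K L : K →* L) (Units.mk0 x hx0) = (m.toMul : Lˣ) :=
        Units.ext hx
      rw [h3]
      exact m.toMul.2
    exact ⟨Additive.ofMul ⟨_, h2⟩, val_injective S hx⟩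
  · rintro ⟨u, rfl⟩
    apply val_injective S
    rw [val_sig, val_inc]
    exact σ.commutes _

theorem val_norm {ℓ : ℕ} (hdeg : Module.finrank K L = ℓ) (S : Set (HeightOneSpectrum (𝓞 K)))
    {σ : Gal(L/K)} (hσ : ∀ τ, τ ∈ Subgroup.zpowers σ) (m : Additive ((places L S).unit L)) :
    val S ((∑ i ∈ Finset.range ℓ, sig S σ ^ i : AddMonoid.End _) m) =
      algebraMap K L (Algebra.norm K (val S m)) := by
  rw [← Hilbert90.prod_pow_eq_norm hσ, hdeg]
  have : (∑ i ∈ Finset.range ℓ, sig S σ ^ i : AddMonoid.End _) m =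
      ∑ i ∈ Finset.range ℓ, (sig S σ ^ i) m := AddMonoidHom.finsetSum_apply _ _ _
  rw [this, val_sum]
  exact Finset.prod_congr rfl fun i _ => val_sig_pow S σ i m

theorem ker_norm_le {ℓ : ℕ} (hdeg : Module.finrank K L = ℓ) {S : Set (HeightOneSpectrum (𝓞 K))}
    (hcl : ClTriv S)
    (hunr : ∀ v ∉ S, ∀ w : HeightOneSpectrum (𝓞 L), w.asIdeal.LiesOver v.asIdeal →
      ∀ x : K, w.valuation L (algebraMap K L x) = v.valuation K x)
    {σ : Gal(L/K)} (hσ : ∀ τ, τ ∈ Subgroup.zpowers σ) :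
    AddMonoidHom.ker (∑ i ∈ Finset.range ℓ, sig S σ ^ i : AddMonoid.End _) ≤
      AddMonoidHom.range (sig S σ - 1) := by
  intro m hm
  have h1 := val_norm hdeg S hσ m
  have h1' : val S ((∑ i ∈ Finset.range ℓ, sig S σ ^ i : AddMonoid.End _) m) = 1 := by
    have hm' : (∑ i ∈ Finset.range ℓ, sig S σ ^ i : AddMonoid.End _) m = 0 := hm
    rw [hm', val_zero]
  rw [h1'] at h1
  have h2 : Algebra.norm K (val S m) = 1 := by
    apply (algebraMap K L).injective
    rw [← h1, map_one]
  obtain ⟨y, hy, hy'⟩ := SUnits.hilbert90 hcl hunr σ hσ (m.toMul : Lˣ) m.toMul.2 h2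
  refine ⟨Additive.ofMul ⟨y, hy⟩, ?_⟩
  change sig S σ (Additive.ofMul ⟨y, hy⟩) - Additive.ofMul ⟨y, hy⟩ = m
  apply Additive.toMul.injective
  apply Subtype.ext
  exact hy'

theorem sig_pow_eq_one {ℓ : ℕ} (hdeg : Module.finrank K L = ℓ)
    (S : Set (HeightOneSpectrum (𝓞 K))) {σ : Gal(L/K)} (hσ : ∀ τ, τ ∈ Subgroup.zpowers σ) :
    sig S σ ^ ℓ = 1 := by
  apply AddMonoidHom.ext
  intro m
  apply val_injective S
  refine (val_sig_pow S σ ℓ m).trans ?_
  rw [← hdeg, ← Hilbert90.orderOf_eq hσ, pow_orderOf_eq_one]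
  rfl

theorem rank_eq {ℓ : ℕ} (hdeg : Module.finrank K L = ℓ) [IsTotallyComplex K] :
    Units.rank L + 1 = ℓ * (Units.rank K + 1) := by
  have : IsTotallyComplex L := isTotallyComplex_of_algebra K L
  have h1 := IsTotallyComplex.finrank K
  have h2 := IsTotallyComplex.finrank L
  have h3 := Module.finrank_mul_finrank ℚ K L
  have h4 := InfinitePlace.card_eq_nrRealPlaces_add_nrComplexPlaces K
  have h5 := InfinitePlace.card_eq_nrRealPlaces_add_nrComplexPlaces L
  rw [IsTotallyComplex.nrRealPlaces_eq_zero, zero_add] at h4 h5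
  have h6 : 0 < Fintype.card (InfinitePlace K) := Fintype.card_pos
  have h7 : 0 < Fintype.card (InfinitePlace L) := Fintype.card_pos
  have h8 : Units.rank K + 1 = Fintype.card (InfinitePlace K) := Nat.sub_add_cancel h6
  have h9 : Units.rank L + 1 = Fintype.card (InfinitePlace L) := Nat.sub_add_cancel h7
  rw [h8, h9, h4, h5]
  rw [h1, h2, hdeg] at h3
  have h10 : 2 * (ℓ * InfinitePlace.nrComplexPlaces K) = 2 * InfinitePlace.nrComplexPlaces L := by
    rw [← h3]; ring
  exact (Nat.eq_of_mul_eq_mul_left two_pos h10).symm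

theorem count_aux {ℓ R a b s' T t : ℕ} (hℓ : 2 ≤ ℓ) (hT : T ≠ 0) (ht : t ≠ 0)
    (h : R ^ (ℓ - 1) * (ℓ ^ a * T) * t ^ ℓ = 1 ^ (ℓ - 1) * T * (ℓ ^ b * t) ^ ℓ)
    (hab : a + (ℓ - 1) * s' = ℓ * b + (ℓ - 1)) : R * ℓ = ℓ ^ s' := by
  have h1 : R ^ (ℓ - 1) * ℓ ^ a = ℓ ^ (b * ℓ) := by
    have h2 : (R ^ (ℓ - 1) * ℓ ^ a) * (T * t ^ ℓ) = ℓ ^ (b * ℓ) * (T * t ^ ℓ) := by
      rw [one_pow, one_mul, mul_pow, ← pow_mul] at h
      calc _ = R ^ (ℓ - 1) * (ℓ ^ a * T) * t ^ ℓ := by ring
        _ = _ := by rw [h]; ring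
    exact Nat.eq_of_mul_eq_mul_right (Nat.pos_of_ne_zero (by positivity)) h2
  have h3 : (R * ℓ) ^ (ℓ - 1) * ℓ ^ a = (ℓ ^ s') ^ (ℓ - 1) * ℓ ^ a := by
    calc _ = (R ^ (ℓ - 1) * ℓ ^ a) * ℓ ^ (ℓ - 1) := by rw [mul_pow]; ring
      _ = ℓ ^ (ℓ * b + (ℓ - 1)) := by rw [h1, ← pow_add, mul_comm b ℓ]
      _ = ℓ ^ (a + (ℓ - 1) * s') := by rw [hab]
      _ = _ := by rw [← pow_mul, ← pow_add, mul_comm s', add_comm]
  have h4 := Nat.eq_of_mul_eq_mul_right (Nat.pow_pos (by omega)) h3
  exact Nat.pow_left_injective (by omega) h4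

theorem card_galois {ℓ : ℕ} [Fact ℓ.Prime] (hdeg : Module.finrank K L = ℓ) :
    ∃ σ : Gal(L/K), ∀ τ, τ ∈ Subgroup.zpowers σ := by
  have h1 : Nat.card Gal(L/K) = ℓ := by rw [IsGalois.card_aut_eq_finrank, hdeg]
  have h2 : IsCyclic Gal(L/K) := isCyclic_of_prime_card h1
  exact h2.exists_generator

/-- the norm index of `S`-units for Galois extensions of prime degree, unramified outside `S`, of
totally complex number fields, when the `S`-class group is trivial -/
theorem norm_sUnit_index (ℓ : ℕ) [Fact ℓ.Prime] [IsTotallyComplex K]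
    (hdeg : Module.finrank K L = ℓ) (S : Set (HeightOneSpectrum (𝓞 K))) (hS : S.Finite)
    (hcl : ClTriv S)
    (hunr : ∀ v ∉ S, ∀ w : HeightOneSpectrum (𝓞 L), w.asIdeal.LiesOver v.asIdeal →
      ∀ x : K, w.valuation L (algebraMap K L x) = v.valuation K x)
    {σ : Gal(L/K)} (hσ : ∀ τ, τ ∈ Subgroup.zpowers σ) :
    (AddMonoidHom.range (∑ i ∈ Finset.range ℓ, sig S σ ^ i : AddMonoid.End _)).relIndex
      (AddMonoidHom.ker (sig (L := L) S σ - 1)) * ℓ =
    ℓ ^ {v ∈ S | ∃! w : HeightOneSpectrum (𝓞 L), w.asIdeal.LiesOver v.asIdeal}.ncard := by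
  have hprime : ℓ.Prime := Fact.out
  obtain ⟨hT, hT'⟩ := H136.SUnit.cok_sUnit ℓ L (places L S) (places_finite hS)
  obtain ⟨ht, ht'⟩ := H136.SUnit.cok_sUnit ℓ K S hS
  have hc : cok ℓ (Additive ((places L S).unit L)) ≠ 0 := by
    rw [hT']
    exact mul_ne_zero (pow_ne_zero _ hprime.ne_zero) hT
  obtain ⟨h, -⟩ := H162.HerbP.herb_prime ℓ (sig (L := L) S σ) (sig_pow_eq_one hdeg S hσ) hT hc
  have hQ : (AddMonoidHom.range (sig (L := L) S σ - 1)).relIndex
      (AddMonoidHom.ker (∑ i ∈ Finset.range ℓ, sig S σ ^ i : AddMonoid.End _)) = 1 :=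
    AddSubgroup.relIndex_eq_one.mpr (ker_norm_le hdeg hcl hunr hσ)
  let e : Additive (S.unit K) ≃+ AddMonoidHom.ker (sig (L := L) S σ - 1) :=
    (AddMonoidHom.ofInjective (inc_injective (L := L) S)).trans
      (AddEquiv.addSubgroupCongr (ker_sub_one S hσ).symm)
  rw [hQ, ← tor_congr ℓ e, ← cok_congr ℓ e, hT', ht'] at h
  refine count_aux hprime.two_le hT ht h ?_
  have h1 := rank_eq (K := K) (L := L) hdeg
  have h2 := places_ncard (L := L) hprime hdeg hS
  obtain ⟨m, rfl⟩ : ∃ m, ℓ = m + 1 := ⟨ℓ - 1, by have := hprime.two_le; omega⟩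
  rw [Nat.add_sub_cancel]
  set s' := {v ∈ S | ∃! w : HeightOneSpectrum (𝓞 L), w.asIdeal.LiesOver v.asIdeal}.ncard
  linarith

theorem relIndex_dvd (ℓ : ℕ) (hdeg : Module.finrank K L = ℓ) (S : Set (HeightOneSpectrum (𝓞 K)))
    {σ : Gal(L/K)} (hσ : ∀ τ, τ ∈ Subgroup.zpowers σ) :
    ((Units.map (Algebra.norm K : L →* K)).range ⊓ S.unit K).relIndex (S.unit K) ∣
      (AddMonoidHom.range (∑ i ∈ Finset.range ℓ, sig S σ ^ i : AddMonoid.End _)).relIndex
      (AddMonoidHom.ker (sig (L := L) S σ - 1)) := by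
  rw [Subgroup.inf_relIndex_right, ker_sub_one S hσ, ← AddSubgroup.index_comap]
  change ((Units.map (Algebra.norm K : L →* K)).range.subgroupOf (S.unit K)).index ∣ _
  rw [← Subgroup.index_toAddSubgroup]
  apply AddSubgroup.index_dvd_of_le
  rintro u ⟨m, hm⟩
  refine ⟨(m.toMul : Lˣ), ?_⟩
  apply Units.ext
  apply (algebraMap K L).injective
  have h1 := val_norm hdeg S hσ m
  have h2 : val S ((∑ i ∈ Finset.range ℓ, sig S σ ^ i : AddMonoid.End _) m) =
      val (L := L) S (inc S u) := congrArg (val S) hm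
  rw [h2, val_inc] at h1
  exact h1.symm

/-- the first inequality for a Galois extension of prime degree -/
theorem dvd (K L : Type*) [Field K] [NumberField K] [Field L] [NumberField L] [Algebra K L]
    (ℓ : ℕ) [Fact ℓ.Prime] [IsTotallyComplex K] [IsGalois K L]
    (hdeg : Module.finrank K L = ℓ) (S : Set (HeightOneSpectrum (𝓞 K))) (hS : S.Finite)
    (hcl : ClTriv S)
    (hunr : ∀ v ∉ S, ∀ w : HeightOneSpectrum (𝓞 L), w.asIdeal.LiesOver v.asIdeal →
      ∀ x : K, w.valuation L (algebraMap K L x) = v.valuation K x) :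
    ((Units.map (Algebra.norm K : L →* K)).range ⊓ S.unit K).relIndex (S.unit K) * ℓ ∣
      ℓ ^ {v ∈ S | ∃! w : HeightOneSpectrum (𝓞 L), w.asIdeal.LiesOver v.asIdeal}.ncard := by
  obtain ⟨σ, hσ⟩ := card_galois (K := K) (L := L) hdeg
  rw [← norm_sUnit_index ℓ hdeg S hS hcl hunr hσ]
  exact mul_dvd_mul_right (relIndex_dvd ℓ hdeg S hσ) ℓ

/-- the first inequality for a Galois extension of prime degree (the hypothesis on roots of unity
is not used) -/
theorem D1 (K L : Type*) [Field K] [NumberField K] [Field L] [NumberField L] [Algebra K L]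
    (ℓ : ℕ) [Fact ℓ.Prime] [IsTotallyComplex K] (_hζ : ∃ ζ : K, IsPrimitiveRoot ζ ℓ)
    [IsGalois K L]
    (hdeg : Module.finrank K L = ℓ) (S : Set (HeightOneSpectrum (𝓞 K))) (hS : S.Finite)
    (hcl : ClTriv S)
    (hunr : ∀ v ∉ S, ∀ w : HeightOneSpectrum (𝓞 L), w.asIdeal.LiesOver v.asIdeal →
      ∀ x : K, w.valuation L (algebraMap K L x) = v.valuation K x) :
    ((Units.map (Algebra.norm K : L →* K)).range ⊓ S.unit K).relIndex (S.unit K) * ℓ ≤
      ℓ ^ {v ∈ S | ∃! w : HeightOneSpectrum (𝓞 L), w.asIdeal.LiesOver v.asIdeal}.ncard :=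
  Nat.le_of_dvd (Nat.pow_pos (Nat.Prime.pos Fact.out)) (dvd K L ℓ hdeg S hS hcl hunr)

end Groth.Agent.Etbc.H226.D1
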