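import Groth.Agent.Etbc.H236.G2Cond
import Groth.Agent.Etbc.H224.NfEFinal
import Groth.Agent.Etbc.H251.NormCd
import Groth.Agent.Etbc.H231.CycCd
import Groth.Agent.Etbc.H201.Serre

/-!
# `cd_ℓ(K) ≤ 2` for number fields `K` (not orderable if `ℓ = 2`)
-/

set_option autoImplicit false
universe u
open AlgebraicGeometry CategoryTheory

namespace Groth.Agent.Etbc.H226.NfCd

open Groth.Agent.Etbc.H236

theorem nf4 : G2Cond.NF4.{u} := fun K _ _ p _ hp h =>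
  Groth.Agent.Etbc.H251.NormCd.cohDimLEAt_one_of_norm K p hp h

theorem nf5 : G2Cond.NF5.{u} := fun p _ d K Kinf _ _ _ _ h1 h2 h3 h4 h5 =>
  Groth.Agent.Etbc.H231.CycCd.cohDimLEAt_succ_of_cyclotomic p d K Kinf h1 h2 h3 h4 h5

theorem serre : G2Cond.Serre.{u} := fun k k' _ _ _ _ l hl hlk d h hord =>
  Groth.Agent.Etbc.H201.Serre.serre_finite k k' l hl hlk d h hord

theorem cd_numberField (K : Type u) [Field K] [CharZero K] [Module.Finite ℚ K] (ℓ : ℕ)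
    [Fact ℓ.Prime] (hord : ℓ ≠ 2 ∨ ¬ ∃ _ : LinearOrder K, IsStrictOrderedRing K) :
    Dix.CohDimLEAt (Spec (CommRingCat.of K)) ℓ 2 :=
  G2Cond.cd_numberField nf4 nf5 serre K ℓ hord fun E _ _ _ h b =>
    Groth.Agent.Etbc.H224.NfEFinal.E ℓ E h b

theorem cd_three (K : Type u) [Field K] [CharZero K] [Module.Finite ℚ K] (ℓ : ℕ)
    [Fact ℓ.Prime] (hord : ℓ ≠ 2 ∨ ¬ ∃ _ : LinearOrder K, IsStrictOrderedRing K) :
    Dix.CohDimLEAt (Spec (CommRingCat.of K)) ℓ 3 :=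
  fun F hF i hi => cd_numberField K ℓ hord F hF i (by omega)

end Groth.Agent.Etbc.H226.NfCd
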