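import Groth.Agent.Etbc.H174.LocalUnits
import Groth.Agent.Etbc.H222.AdicLF

/-!
# Weak approximation modulo `ℓ`-th powers

* `approx`: for a Dedekind domain `A` with fraction field `K`, a finite set `S` of maximal ideals
  and nonzero elements `x v` of the completions, there is `y : Kˣ` with `y / x v` close to `1` at
  all `v ∈ S`;
* `exists_pow_eq_of_near`: elements of the completion of a number field close to `1` are `ℓ`-th
  powers;
* `weak_approx`: the combination of the two.
-/

set_option autoImplicit false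
universe u
open NumberField IsDedekindDomain

namespace Groth.Agent.Etbc.H226.WeakApprox

section dedekind

variable {A : Type*} [CommRing A] [IsDedekindDomain A] {K : Type*} [Field K] [Algebra A K]
  [IsFractionRing A K]

/-- density of `K` in the completion, multiplicative form -/
theorem exists_near (v : HeightOneSpectrum A) (x : (v.adicCompletion K)ˣ) (n : ℕ) :
    ∃ y : Kˣ, Valued.v (((y : K) : v.adicCompletion K) / x - 1) ≤ WithZero.exp (-(n : ℤ)) := by
  obtain ⟨π, hπ⟩ := H222.AdicLF.exists_unif (K := K) v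
  have hπ0 : (π : v.adicCompletion K) ≠ 0 := by
    intro h
    rw [h, map_zero] at hπ
    exact WithZero.exp_ne_zero hπ.symm
  have hx0 : (x : v.adicCompletion K) ≠ 0 := x.ne_zero
  have hpow : Valued.v ((π : v.adicCompletion K) ^ (n + 1)) =
      WithZero.exp (-((n + 1 : ℕ) : ℤ)) := by
    rw [map_pow, hπ, ← WithZero.exp_nsmul]
    simp
  obtain ⟨y, hy⟩ : ∃ y : K, Valued.v ((y : v.adicCompletion K) - x) <
      Valued.v ((x : v.adicCompletion K) * (π : v.adicCompletion K) ^ (n + 1)) := by
    have h1 := HeightOneSpectrum.denseRange_algebraMap (K := K) v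
    have h2 : IsOpen {y : v.adicCompletion K | Valued.v (y - (x : v.adicCompletion K)) <
        Valued.v ((x : v.adicCompletion K) * (π : v.adicCompletion K) ^ (n + 1))} := by
      have h1 := Valued.isOpen_ball (v.adicCompletion K)
        ((Valued.v : Valuation (v.adicCompletion K) _).restrict
          ((x : v.adicCompletion K) * (π : v.adicCompletion K) ^ (n + 1)))
      have h2 := h1.preimage (continuous_sub_right (x : v.adicCompletion K))
      convert h2 using 1
      ext y
      simp only [Set.mem_ofPred_eq, Set.mem_preimage, Valuation.restrict_lt_iff]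
    obtain ⟨y, hy⟩ := h1.exists_mem_open h2 ⟨x, by
      rw [Set.mem_ofPred_eq, sub_self, map_zero, zero_lt_iff, Valuation.ne_zero_iff]
      exact mul_ne_zero hx0 (pow_ne_zero _ hπ0)⟩
    exact ⟨y, hy⟩
  have hvx : Valued.v (x : v.adicCompletion K) ≠ 0 := by rwa [Valuation.ne_zero_iff]
  have h3 : Valued.v ((y : v.adicCompletion K) / x - 1) < WithZero.exp (-((n + 1 : ℕ) : ℤ)) := by
    have e : (y : v.adicCompletion K) / x - 1 = ((y : v.adicCompletion K) - x) / x := by
      rw [sub_div, div_self hx0]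
    rw [e, map_div₀, div_lt_iff₀ (zero_lt_iff.mpr hvx)]
    rw [map_mul, hpow, mul_comm] at hy
    exact hy
  have hy0 : y ≠ 0 := by
    rintro rfl
    have e0 : ((0 : K) : v.adicCompletion K) = 0 := by
      exact map_zero (algebraMap K (v.adicCompletion K))
    rw [e0, zero_div, zero_sub, Valuation.map_neg, map_one, ← WithZero.exp_zero,
      WithZero.exp_lt_exp] at h3
    push_cast at h3
    omega
  refine ⟨Units.mk0 y hy0, h3.le.trans ?_⟩
  rw [WithZero.exp_le_exp]
  push_cast
  omega

/-- approximation inside `K` -/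
theorem approx_global {S : Set (HeightOneSpectrum A)} (hS : S.Finite)
    (x : HeightOneSpectrum A → Kˣ) (n : HeightOneSpectrum A → ℕ) :
    ∃ y : Kˣ, ∀ v ∈ S, v.valuation K ((y : K) / x v - 1) ≤ WithZero.exp (-(n v : ℤ)) := by
  classical
  rcases S.eq_empty_or_nonempty with rfl | ⟨v₀, hv₀⟩
  · exact ⟨1, fun v hv => absurd hv (Set.notMem_empty v)⟩
  -- common denominator
  obtain ⟨b, hb⟩ := IsLocalization.exist_integer_multiples_of_finset (nonZeroDivisors A)
    (hS.toFinset.image (fun v => ((x v : Kˣ) : K)))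
  have hb' : ∀ v ∈ S, ∃ a : A, algebraMap A K a = algebraMap A K b * ((x v : Kˣ) : K) := by
    intro v hv
    obtain ⟨a, ha⟩ := hb ((x v : Kˣ) : K) (Finset.mem_image.mpr ⟨v, by simpa using hv, rfl⟩)
    exact ⟨a, by rw [ha, Algebra.smul_def]⟩
  choose! a ha using hb'
  have hb0 : algebraMap A K b ≠ 0 := by
    simp
  have ha0 : ∀ v ∈ S, a v ≠ 0 := by
    intro v hv h
    have := ha v hv
    rw [h, map_zero] at this
    exact mul_ne_zero hb0 (x v).ne_zero this.symm
  have hval : ∀ v ∈ S, ∃ k : ℕ, v.intValuation (a v) = WithZero.exp (-(k : ℤ)) := fun v hv =>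
    ⟨_, HeightOneSpectrum.intValuation_eq_exp_neg_multiplicity v (ha0 v hv)⟩
  choose! k hk using hval
  obtain ⟨c, hc⟩ := IsDedekindDomain.exists_forall_sub_mem_ideal (s := hS.toFinset)
    (fun v : HeightOneSpectrum A => v.asIdeal) (fun v => k v + (n v + 1))
    (fun v _ => v.prime) (fun v _ w _ hvw h => hvw (HeightOneSpectrum.ext h))
    (fun v => a v.1)
  have hc' : ∀ v ∈ S, v.valuation K (algebraMap A K c / algebraMap A K (a v) - 1) ≤
      WithZero.exp (-((n v + 1 : ℕ) : ℤ)) := by
    intro v hv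
    have h1 := hc v (by simpa using hv)
    rw [← HeightOneSpectrum.intValuation_le_pow_iff_mem] at h1
    have h2 : algebraMap A K (a v) ≠ 0 := by simpa using ha0 v hv
    have e : algebraMap A K c / algebraMap A K (a v) - 1 =
        algebraMap A K (c - a v) / algebraMap A K (a v) := by
      rw [map_sub, sub_div, div_self h2]
    rw [e, map_div₀, HeightOneSpectrum.valuation_of_algebraMap,
      HeightOneSpectrum.valuation_of_algebraMap, hk v hv,
      div_le_iff₀ (zero_lt_iff.mpr WithZero.exp_ne_zero), ← WithZero.exp_add]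
    refine h1.trans ?_
    rw [WithZero.exp_le_exp]
    push_cast
    omega
  have hc0 : algebraMap A K c ≠ 0 := by
    intro h
    have h1 := hc' v₀ hv₀
    rw [h, zero_div, zero_sub, Valuation.map_neg, map_one, ← WithZero.exp_zero,
      WithZero.exp_le_exp] at h1
    push_cast at h1
    omega
  refine ⟨Units.mk0 (algebraMap A K c / algebraMap A K b) (div_ne_zero hc0 hb0),
    fun v hv => ?_⟩
  have h1 := hc' v hv
  have e : algebraMap A K c / algebraMap A K b / ((x v : Kˣ) : K) =
      algebraMap A K c / algebraMap A K (a v) := by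
    rw [ha v hv, div_div]
  rw [Units.val_mk0, e]
  refine h1.trans ?_
  rw [WithZero.exp_le_exp]
  push_cast
  omega

theorem mul_near {Γ F : Type*} [Field F] [LinearOrderedCommGroupWithZero Γ] (w : Valuation F Γ)
    {a b : F} {γ : Γ} (hγ : γ ≤ 1) (ha : w (a - 1) ≤ γ) (hb : w (b - 1) ≤ γ) :
    w (a * b - 1) ≤ γ := by
  have e : a * b - 1 = (a - 1) * (b - 1) + ((a - 1) + (b - 1)) := by ring
  rw [e]
  refine (w.map_add _ _).trans (max_le ?_ ((w.map_add _ _).trans (max_le ha hb)))
  rw [map_mul]
  calc w (a - 1) * w (b - 1) ≤ γ * 1 := mul_le_mul' ha (hb.trans hγ)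
    _ = γ := mul_one _

/-- weak approximation for the completions of the fraction field of a Dedekind domain -/
theorem approx {S : Set (HeightOneSpectrum A)} (hS : S.Finite)
    (x : ∀ v : HeightOneSpectrum A, (v.adicCompletion K)ˣ) (n : HeightOneSpectrum A → ℕ) :
    ∃ y : Kˣ, ∀ v ∈ S, Valued.v (((y : K) : v.adicCompletion K) / x v - 1) ≤
      WithZero.exp (-(n v : ℤ)) := by
  choose x' hx' using fun v : HeightOneSpectrum A => exists_near v (x v) (n v)
  obtain ⟨y, hy⟩ := approx_global hS x' n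
  refine ⟨y, fun v hv => ?_⟩
  have h1 := hy v hv
  have h2 := hx' v
  rw [← HeightOneSpectrum.valuedAdicCompletion_eq_valuation'] at h1
  have e : (((y : K) / x' v - 1 : K) : v.adicCompletion K) =
      ((y : K) : v.adicCompletion K) / ((x' v : K) : v.adicCompletion K) - 1 := by
    change algebraMap K (v.adicCompletion K) ((y : K) / x' v - 1) = _
    rw [map_sub, map_div₀, map_one]
    rfl
  rw [e] at h1
  have h0 : ((x' v : K) : v.adicCompletion K) ≠ 0 := by
    change algebraMap K (v.adicCompletion K) (x' v : K) ≠ 0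
    rw [map_ne_zero]
    exact (x' v).ne_zero
  have e2 : ((y : K) : v.adicCompletion K) / x v =
      (((y : K) : v.adicCompletion K) / ((x' v : K) : v.adicCompletion K)) *
        (((x' v : K) : v.adicCompletion K) / x v) := by
    rw [div_mul_div_cancel₀ h0]
  rw [e2]
  refine mul_near _ ?_ h1 h2
  rw [← WithZero.exp_zero, WithZero.exp_le_exp]
  omega

end dedekind

/-- elements close to `1` are `ℓ`-th powers -/
theorem exists_pow_eq_of_near (K : Type u) [Field K] [NumberField K] (ℓ : ℕ) (hℓ : 2 ≤ ℓ)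
    (v : HeightOneSpectrum (𝓞 K)) :
    ∃ n : ℕ, ∀ z : v.adicCompletion K, Valued.v (z - 1) ≤ WithZero.exp (-(n : ℤ)) →
      ∃ c : v.adicCompletion K, c ^ ℓ = z := by
  have hens := H222.AdicLF.henselian (K := K) v
  have hℓ0 : ((ℓ : 𝓞 K)) ≠ 0 := by
    rw [Nat.cast_ne_zero]; omega
  have hk : ∃ k : ℕ, v.intValuation (ℓ : 𝓞 K) = WithZero.exp (-(k : ℤ)) :=
    ⟨_, HeightOneSpectrum.intValuation_eq_exp_neg_multiplicity v hℓ0⟩
  obtain ⟨k, hk⟩ := hk
  have hcast : ((ℓ : v.adicCompletionIntegers K) : v.adicCompletion K) = (ℓ : v.adicCompletion K) := by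
    simp
  have hvℓ : Valued.v ((ℓ : v.adicCompletion K)) = WithZero.exp (-(k : ℤ)) := by
    rw [← hk, ← HeightOneSpectrum.valuation_of_algebraMap (K := K),
      ← HeightOneSpectrum.valuedAdicCompletion_eq_valuation']
    congr 1
    change _ = algebraMap K (v.adicCompletion K) (algebraMap (𝓞 K) K (ℓ : 𝓞 K))
    rw [map_natCast, map_natCast]
  have hvℓ0 : (ℓ : v.adicCompletion K) ≠ 0 := by
    intro h
    rw [h, map_zero] at hvℓ
    exact WithZero.exp_ne_zero hvℓ.symm
  refine ⟨2 * k + 1, fun z hz => ?_⟩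
  -- `z = 1 + ℓ a`, `a = ℓ b`
  have hb : Valued.v ((z - 1) / (ℓ : v.adicCompletion K) ^ 2) ≤ WithZero.exp (-1 : ℤ) := by
    rw [map_div₀, map_pow, hvℓ, ← WithZero.exp_nsmul,
      div_le_iff₀ (zero_lt_iff.mpr WithZero.exp_ne_zero), ← WithZero.exp_add]
    refine hz.trans ?_
    rw [WithZero.exp_le_exp]
    push_cast
    simp only [smul_neg, nsmul_eq_mul]
    push_cast
    omega
  have hb1 : Valued.v ((z - 1) / (ℓ : v.adicCompletion K) ^ 2) ≤ 1 := by
    refine hb.trans ?_
    rw [← WithZero.exp_zero, WithZero.exp_le_exp]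
    norm_num
  let b : v.adicCompletionIntegers K := ⟨(z - 1) / (ℓ : v.adicCompletion K) ^ 2, hb1⟩
  have hbm : b ∈ IsLocalRing.maximalIdeal (v.adicCompletionIntegers K) := by
    rw [H222.AdicLF.mem_max_iff]
    refine hb.trans_lt ?_
    rw [← WithZero.exp_zero, WithZero.exp_lt_exp]
    norm_num
  obtain ⟨t, ht⟩ := H174.LocalUnits.exists_pow_eq ℓ hℓ ((ℓ : v.adicCompletionIntegers K) * b) b
    rfl hbm (by
      intro h
      apply hvℓ0
      rw [← hcast, h]
      rfl)
  refine ⟨((1 + ((ℓ : v.adicCompletionIntegers K) * b) * t : v.adicCompletionIntegers K) :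
    v.adicCompletion K), ?_⟩
  have h1 := congrArg (fun r : v.adicCompletionIntegers K => (r : v.adicCompletion K)) ht
  rw [← SubmonoidClass.coe_pow]
  refine h1.trans ?_
  push_cast
  change 1 + (ℓ : v.adicCompletion K) * ((ℓ : v.adicCompletion K) *
    ((z - 1) / (ℓ : v.adicCompletion K) ^ 2)) = z
  field_simp
  ring

/-- weak approximation modulo `ℓ`-th powers -/
theorem weak_approx (K : Type u) [Field K] [NumberField K] (ℓ : ℕ) (hℓ : 2 ≤ ℓ)
    {S : Set (HeightOneSpectrum (𝓞 K))} (hS : S.Finite)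
    (x : ∀ v : HeightOneSpectrum (𝓞 K), (v.adicCompletion K)ˣ) :
    ∃ y : Kˣ, ∀ v ∈ S, ∃ c : (v.adicCompletion K)ˣ,
      Units.map (algebraMap K (v.adicCompletion K) : K →* v.adicCompletion K) y = x v * c ^ ℓ := by
  choose n hn using exists_pow_eq_of_near K ℓ hℓ
  obtain ⟨y, hy⟩ := approx hS x n
  refine ⟨y, fun v hv => ?_⟩
  obtain ⟨c, hc⟩ := hn v _ (hy v hv)
  have hc0 : c ≠ 0 := by
    rintro rfl
    rw [zero_pow (by omega)] at hc
    have : ((y : K) : v.adicCompletion K) / x v ≠ 0 :=
      div_ne_zero (by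
        change algebraMap K (v.adicCompletion K) (y : K) ≠ 0
        rw [map_ne_zero]
        exact y.ne_zero) (x v).ne_zero
    exact this hc.symm
  refine ⟨Units.mk0 c hc0, ?_⟩
  apply Units.ext
  rw [Units.val_mul, Units.val_pow_eq_pow_val, Units.val_mk0, hc, mul_div_cancel₀ _ (x v).ne_zero]
  rfl

end Groth.Agent.Etbc.H226.WeakApprox
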